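import Cfsg.Agent.H650.AH.HexRGD
import Cfsg.Agent.H148.G2Inst
import Cfsg.Agent.Nodes.RGDChev
import Cfsg.Agent.ChevalleyStructure.BNChev

/-!
# S2451 (A): `G₂(q)`, `q ≥ 3` (helper650)
-/

set_option autoImplicit false

namespace Cfsg.Agent.H650.AH.RowG2

open Cfsg Cfsg.Lie Cfsg.Agent.Tits.RootComb Cfsg.Agent.Nodes.Comb Cfsg.Agent.Nodes.Reps Cfsg.Agent.Nodes.BNOf
  Cfsg.Agent.Nodes.BNOf.RGD Cfsg.Agent.Nodes.RGDChev Cfsg.Agent.ChevalleyStructure.Elts Cfsg.Agent.Tits.Roots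
  Cfsg.Agent.ChevalleyStructure.NPerm Cfsg.Agent.ChevalleyStructure.BNChev Cfsg.Agent.ChevalleyStructure.CoxeterGeom
open Cfsg.Agent.Hexagon.G2Side Cfsg.Agent.Hexagon.G2Pos Cfsg.Agent.TitsThree.RankTwoZ
open Cfsg.Agent.Cit.HexBase Cfsg.Agent.Cit.HexBase.HexGrp Cfsg.Agent.Lib.SL2Mat

universe u

variable {F : Type u} [Field F]

theorem hp : IsType chevG2 2 CoxeterMatrix.G₂ := by simp [IsType, typeList]

theorem tab_pos : ∀ r < 12, (∀ i : Fin 2, 0 ≤ vec chevG2 2 r i) → ∃ k : ZMod (2 * 6),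
    k ∈ ({1, 2, 3, 4, 5, 6} : Finset (ZMod (2 * 6))) ∧ tab k = r := by decide +kernel

theorem pos_tab : ∀ k ∈ ({1, 2, 3, 4, 5, 6} : Finset (ZMod (2 * 6))), ∀ i : Fin 2, 0 ≤ vec chevG2 2 (tab k) i := by
  decide +kernel

theorem two (i : Fin 2) : i = 1 ∨ i = 0 := by
  fin_cases i
  · right; rfl
  · left; rfl

theorem notA [Finite F] (p : ℕ) [CharP F p] (ha : ∃ a : F, a ≠ 0 ∧ a ≠ 1) : H27.AH.NotA p ↥(chevG2.group F) := by
  have : Fact p.Prime := ⟨CharP.char_is_prime F p⟩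
  have hW := finite_W hp (CoxeterMatrix.G₂).toCoxeterSystem
  have : IsSimpleGroup ↥(chevG2.group F) := (S1055.result ha).1
  set cs := (CoxeterMatrix.G₂).toCoxeterSystem with hcs
  refine notA_of_rgd_hex (rgd (K := F) hp cs p) (gen hp cs p) (Cfsg.Agent.H148.Hex.g2' F ha) 1 0 two ?_ ?_ ?_ ?_
  · apply le_antisymm
    · refine Sup_le fun x hx => ?_
      obtain ⟨r, hr, rfl⟩ := (isRoot_iff hp cs x).1 hx.1
      obtain ⟨k, hk, rfl⟩ := tab_pos r hr hx.2
      refine le_trans (le_of_eq ?_) (X_le_Sg hk)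
      rw [XV_vec hp F hr]
      rfl
    · refine Sg_le fun k hk => ?_
      have hr : tab k < chevG2.nroots := tab_lt k
      have hP : vec chevG2 2 (tab k) ∈ Pos cs hp.isCartan := ⟨isRoot_vec hp cs hr, pos_tab k hk⟩
      refine le_trans (le_of_eq ?_) (le_Sup (X := fun x => (XV chevG2 2 F x).subgroupOf (chevG2.group F)) hP)
      rw [XV_vec hp F hr]
      rfl
  · intro t ht
    rw [Subgroup.mem_subgroupOf] at ht
    obtain ⟨c1, h1, h1'⟩ := diagonal_conj (F := F) hp.inList ht (show 7 < chevG2.nroots by decide +kernel)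
    obtain ⟨c6, h6, h6'⟩ := diagonal_conj (F := F) hp.inList ht (show 6 < chevG2.nroots by decide +kernel)
    refine ⟨c1, c6, ?_, fun a => ?_, fun a _ => ?_, h1, h6, rfl⟩
    · refine maps_of (fun k a => ?_) (fun k a => ?_)
      · obtain ⟨d, -, hd⟩ := diagonal_conj (F := F) hp.inList ht (tab_lt k)
        exact ⟨_, hd a⟩
      · obtain ⟨d, -, hd⟩ := diagonal_conj (F := F) hp.inList (inv_mem ht) (tab_lt k)
        refine ⟨d * a, ?_⟩
        have := hd a
        rwa [inv_inv] at this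
    · apply Subtype.ext
      exact h1' a
    · apply Subtype.ext
      exact h6' a
  · apply Subtype.ext
    change nn hp F 1 = _
    rw [HexGrp.n6]
    change nn hp F 1 = ((Cfsg.Agent.ClassificationK.GTwoChev.ph6 F (Cfsg.Agent.Cit.HexG2.inc F
      (wm 1 one_ne_zero)) : ↥(chevG2.group F)) : GL chevG2.Idx F)
    rw [Cfsg.Agent.Cit.HexG2.inc_wm]
    exact (Cfsg.Agent.Cit.HexG2.ph_wm _ _ _).symm
  · apply Subtype.ext
    change nn hp F 0 = _
    rw [HexGrp.n1]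
    exact (Cfsg.Agent.Cit.HexG2.ph_wm (F := F) (r := 7) (by decide) 1 one_ne_zero).symm

/-- **`G₂(q)`, `q ≥ 3`.** -/
theorem notA_g2 (F : Type u) [Field F] [Fintype F] (p : ℕ) [CharP F p] (h3 : 3 ≤ Fintype.card F) :
    H27.AH.NotA p ↥(chevG2.group F) := by
  classical
  refine notA p ?_
  by_contra hcon
  push Not at hcon
  have h1 : (Finset.univ : Finset F) ⊆ {0, 1} := by
    intro a _
    by_cases h0 : a = 0
    · simp [h0]
    · simp [hcon a h0]
  have h2 := Finset.card_le_card h1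
  rw [Finset.card_univ] at h2
  have h4 : ({0, 1} : Finset F).card ≤ 2 := Finset.card_le_two
  omega

end Cfsg.Agent.H650.AH.RowG2
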