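import Cfsg.Agent.Cit.HexBruhat

/-!
# S2451 (A), `G₂` and `³D₄`: coordinates in the unipotent radical of the long node (helper650)

For `c : HexGrp σ L`:
* `Co c u a b` : `u = x1 a · k · x5 b` with `k ∈ ⟨X 2, X 3, X 4⟩`;
* `Co.conj_V`, `Co.conj6`, `Co.act`, `Co.n6` : the action of the parabolic subgroup `⟨B, n6⟩`;
* `C1 c u a` : `u = x1 a · k`, `k ∈ ⟨X 2, …, X 6⟩`.
-/

set_option autoImplicit false

namespace Cfsg.Agent.H650.AH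

open Cfsg.Agent.SplitTwo Cfsg.Agent.TitsThree.RankTwoZ Cfsg.Agent.Lib.SL2Mat Cfsg.Agent.Cit.HexBase
  Cfsg.Agent.Cit.HexBase.HexGrp
open scoped commutatorElement

universe u

variable {E : Type*} [Field E] {σ : E ≃+* E} {L : Type u} [Group L] {c : HexGrp σ L}

/-- `⟨X 2, X 3, X 4⟩` -/
abbrev Z0 (c : HexGrp σ L) : Subgroup L := Sg c.X {2, 3, 4}

/-- `⟨X 2, …, X 6⟩` -/
abbrev KK (c : HexGrp σ L) : Subgroup L := Sg c.X {2, 3, 4, 5, 6}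

/-- `⟨X 1, …, X 5⟩` -/
abbrev VV (c : HexGrp σ L) : Subgroup L := Sg c.X {1, 2, 3, 4, 5}

/-- the coordinates in `VV` modulo `Z0` -/
def Co (c : HexGrp σ L) (u : L) (a b : E) : Prop := ∃ k ∈ Z0 c, u = c.x1 a * k * c.x5 b

/-- the coordinate in `U` modulo `KK` -/
def C1 (c : HexGrp σ L) (u : L) (a : E) : Prop := ∃ k ∈ KK c, u = c.x1 a * k

theorem z1 {x k : L} (hx : x ∈ c.X 1) (hk : k ∈ Z0 c) : x * k * x⁻¹ ∈ Z0 c :=
  c.conj_mem_Sg (by decide +kernel) hx hk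

theorem z5 {x k : L} (hx : x ∈ c.X 5) (hk : k ∈ Z0 c) : x * k * x⁻¹ ∈ Z0 c :=
  c.conj_mem_Sg (by decide +kernel) hx hk

theorem k1 {x k : L} (hx : x ∈ c.X 1) (hk : k ∈ KK c) : x * k * x⁻¹ ∈ KK c :=
  c.conj_mem_Sg (by decide +kernel) hx hk

theorem c15 {x y : L} (hx : x ∈ c.X 1) (hy : y ∈ c.X 5) : ⁅x, y⁆ ∈ Z0 c := by
  have h := c.comm (k := 1) (j := 5) (by decide) (by decide) hx hy
  exact Sg_mono (by decide +kernel) h

theorem c51 {x y : L} (hx : x ∈ c.X 5) (hy : y ∈ c.X 1) : ⁅x, y⁆ ∈ Z0 c := by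
  rw [← commutatorElement_inv]
  exact inv_mem (c15 hy hx)

theorem x1_comm (a b : E) : c.x1 a * c.x1 b = c.x1 b * c.x1 a := by
  rw [← c.x1_add, ← c.x1_add, add_comm]

theorem x5_comm (a b : E) : c.x5 a * c.x5 b = c.x5 b * c.x5 a := by
  rw [← c.x5_add, ← c.x5_add, add_comm]

theorem exists_Co {u : L} (hu : u ∈ VV c) : ∃ a b, Co c u a b := by
  obtain ⟨x, hx, v, hv, rfl⟩ := c.exists_mul (k := 1) (s := {2, 3, 4, 5}) (by decide +kernel) hu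
  obtain ⟨k, hk, y, hy, rfl⟩ := c.exists_mul' (k := 5) (s := {2, 3, 4}) (by decide +kernel)
    (Sg_mono (by decide +kernel) hv)
  obtain ⟨a, rfl⟩ := (c.par.mem1 _).1 hx
  obtain ⟨b, rfl⟩ := (c.par.mem5 _).1 hy
  exact ⟨a, b, k, hk, by rw [mul_assoc]⟩

theorem Co.unique {u : L} {a b a' b' : E} (h : Co c u a b) (h' : Co c u a' b') : a = a' ∧ b = b' := by
  obtain ⟨k, hk, e⟩ := h
  obtain ⟨k', hk', e'⟩ := h'
  rw [e, mul_assoc, mul_assoc] at e'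
  have m : ∀ (k : L) (b : E), k ∈ Z0 c → k * c.x5 b ∈ Sg c.X {2, 3, 4, 5} := fun k b hk =>
    mul_mem (Sg_mono (by decide +kernel) hk) (X_le_Sg (by decide) (c.mem5 b))
  obtain ⟨h1, h2⟩ := c.peel (k := 1) (s := {2, 3, 4, 5}) (by decide +kernel) (c.mem1 a) (m k b hk) (c.mem1 a')
    (m k' b' hk') e'
  obtain ⟨h3, -⟩ := c.peel' (k := 5) (s := {2, 3, 4}) (by decide +kernel) (c.mem5 b) hk (c.mem5 b') hk' h2
  exact ⟨c.x1_inj h1, c.x5_inj h3⟩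

theorem Co.conj1 {u : L} {a b : E} (h : Co c u a b) (s : E) : Co c (c.x1 s * u * (c.x1 s)⁻¹) a b := by
  obtain ⟨k, hk, rfl⟩ := h
  refine ⟨(c.x1 s * k * (c.x1 s)⁻¹) * ⁅c.x1 s, c.x5 b⁆, mul_mem (z1 (c.mem1 s) hk) (c15 (c.mem1 s) (c.mem5 b)), ?_⟩
  rw [commutatorElement_def]
  calc c.x1 s * (c.x1 a * k * c.x5 b) * (c.x1 s)⁻¹
      = (c.x1 s * c.x1 a) * k * c.x5 b * (c.x1 s)⁻¹ := by group
    _ = (c.x1 a * c.x1 s) * k * c.x5 b * (c.x1 s)⁻¹ := by rw [x1_comm]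
    _ = _ := by group

theorem Co.conj5 {u : L} {a b : E} (h : Co c u a b) (s : E) : Co c (c.x5 s * u * (c.x5 s)⁻¹) a b := by
  obtain ⟨k, hk, rfl⟩ := h
  refine ⟨((c.x1 (-a)) * ⁅c.x5 s, c.x1 a⁆ * (c.x1 (-a))⁻¹) * (c.x5 s * k * (c.x5 s)⁻¹),
    mul_mem (z1 (c.mem1 _) (c51 (c.mem5 s) (c.mem1 a))) (z5 (c.mem5 s) hk), ?_⟩
  rw [commutatorElement_def, c.x1_neg]
  calc c.x5 s * (c.x1 a * k * c.x5 b) * (c.x5 s)⁻¹
      = c.x5 s * c.x1 a * k * (c.x5 b * (c.x5 s)⁻¹) := by group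
    _ = c.x5 s * c.x1 a * k * ((c.x5 s)⁻¹ * c.x5 b) := by
      rw [← c.x5_neg, x5_comm]
    _ = _ := by group

theorem Co.conjZ {u : L} {a b : E} (h : Co c u a b) {z : L} (hz : z ∈ Z0 c) : Co c (z * u * z⁻¹) a b := by
  obtain ⟨k, hk, rfl⟩ := h
  refine ⟨(c.x1 (-a) * z * (c.x1 (-a))⁻¹) * k * (c.x5 b * z⁻¹ * (c.x5 b)⁻¹),
    mul_mem (mul_mem (z1 (c.mem1 _) hz) hk) (z5 (c.mem5 b) (inv_mem hz)), ?_⟩
  rw [c.x1_neg]
  group

theorem Co.conj_V {u : L} {a b : E} (h : Co c u a b) {w : L} (hw : w ∈ VV c) : Co c (w * u * w⁻¹) a b := by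
  obtain ⟨s, t, z, hz, rfl⟩ := exists_Co hw
  have h1 := ((h.conj5 t).conjZ hz).conj1 s
  have e : c.x1 s * (z * (c.x5 t * u * (c.x5 t)⁻¹) * z⁻¹) * (c.x1 s)⁻¹ =
      c.x1 s * z * c.x5 t * u * (c.x1 s * z * c.x5 t)⁻¹ := by group
  rwa [e] at h1

/-- `X 6` normalises `Z0`. -/
theorem z6 {t : E} (ht : σ t = t) {k : L} (hk : k ∈ Z0 c) : c.x6 t * k * (c.x6 t)⁻¹ ∈ Z0 c := by
  have key : Z0 c ≤ (Z0 c).comap (MulAut.conj (c.x6 t)).toMonoidHom := by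
    refine Sg_le fun j hj y hy => ?_
    change c.x6 t * y * (c.x6 t)⁻¹ ∈ Z0 c
    have e : c.x6 t * y * (c.x6 t)⁻¹ = y * kk y (c.x6 (-t)) := by
      unfold kk
      rw [c.x6_neg ht]
      group
    simp only [Finset.mem_insert, Finset.mem_singleton] at hj
    rcases hj with rfl | rfl | rfl
    · obtain ⟨a, ha, rfl⟩ := (c.par.mem2 _).1 hy
      rw [e, c.par.rel.c26 _ _ ha (neg_fix ht)]
      exact mul_mem (X_le_Sg (by decide) hy) (X_le_Sg (by decide) (c.mem4 (mul_fix ha (neg_fix ht))))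
    · obtain ⟨a, rfl⟩ := (c.par.mem3 _).1 hy
      rw [e, c.par.rel.c36 _ _ (neg_fix ht), mul_one]
      exact X_le_Sg (by decide) hy
    · obtain ⟨a, ha, rfl⟩ := (c.par.mem4 _).1 hy
      rw [e, c.par.rel.c46 _ _ ha (neg_fix ht), mul_one]
      exact X_le_Sg (by decide) hy
  exact key hk

theorem x56_comm {t : E} (ht : σ t = t) (b : E) : c.x6 t * c.x5 b * (c.x6 t)⁻¹ = c.x5 b := by
  have e : c.x6 t * c.x5 b * (c.x6 t)⁻¹ = c.x5 b * kk (c.x5 b) (c.x6 (-t)) := by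
    unfold kk
    rw [c.x6_neg ht]
    group
  rw [e, c.par.rel.c56 _ _ (neg_fix ht), mul_one]

theorem Co.conj6 {u : L} {a b : E} (h : Co c u a b) {t : E} (ht : σ t = t) :
    Co c (c.x6 t * u * (c.x6 t)⁻¹) a (b + t * a) := by
  obtain ⟨k, hk, rfl⟩ := h
  have h1 := c.conj61 a t ht
  have h2 := x56_comm (c := c) ht b
  have hz : c.x2 (t * nrm σ a) * c.x3 (-(t * shp σ a)) * c.x4 (t ^ 2 * nrm σ a) ∈ Z0 c :=
    mul_mem (mul_mem (X_le_Sg (by decide) (c.mem2 (mul_fix ht (c.nf a)))) (X_le_Sg (by decide) (c.mem3 _)))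
      (X_le_Sg (by decide) (c.mem4 (mul_fix (by rw [map_pow, ht]) (c.nf a))))
  refine ⟨c.x2 (t * nrm σ a) * c.x3 (-(t * shp σ a)) * c.x4 (t ^ 2 * nrm σ a) *
    (c.x5 (t * a) * (c.x6 t * k * (c.x6 t)⁻¹) * (c.x5 (t * a))⁻¹), mul_mem hz (z5 (c.mem5 _) (z6 ht hk)), ?_⟩
  have e : c.x6 t * (c.x1 a * k * c.x5 b) * (c.x6 t)⁻¹ =
      (c.x6 t * c.x1 a * (c.x6 t)⁻¹) * (c.x6 t * k * (c.x6 t)⁻¹) * (c.x6 t * c.x5 b * (c.x6 t)⁻¹) := by group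
  rw [e, h1, h2, add_comm b, c.x5_add]
  group

theorem Co.act {u : L} {a b : E} (h : Co c u a b) {g : L} {c1 c6 : E} (hg : c.Act g c1 c6) :
    Co c (g * u * g⁻¹) (c1 * a) (c6 * c1 * b) := by
  obtain ⟨k, hk, rfl⟩ := h
  refine ⟨g * k * g⁻¹, conj_Sg hg.maps (fun _ h => h) hk, ?_⟩
  rw [← hg.a1, ← hg.a5]
  group

theorem Co.n6 {u : L} {a b : E} (h : Co c u a b) : Co c (c.n6 * u * c.n6⁻¹) (-b) a := by
  obtain ⟨k, hk, rfl⟩ := h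
  have hk' : c.n6 * k * c.n6⁻¹ ∈ Z0 c := conj_Sg c.maps_n6 (by decide +kernel) hk
  refine ⟨⁅c.x1 b, c.x5 a⁆ * (c.x5 a * (c.x1 b * (c.n6 * k * c.n6⁻¹) * (c.x1 b)⁻¹) * (c.x5 a)⁻¹),
    mul_mem (c15 (c.mem1 b) (c.mem5 a)) (z5 (c.mem5 a) (z1 (c.mem1 b) hk')), ?_⟩
  have e : c.n6 * (c.x1 a * k * c.x5 b) * c.n6⁻¹ =
      (c.n6 * c.x1 a * c.n6⁻¹) * (c.n6 * k * c.n6⁻¹) * (c.n6 * c.x5 b * c.n6⁻¹) := by group
  rw [e, n6_x1, n6_x5, c.x1_neg, commutatorElement_def]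
  group

/-! ### The first coordinate in `U` -/

theorem exists_C1 {u : L} (hu : u ∈ Sg c.X Pos) : ∃ a, C1 c u a := by
  obtain ⟨x, hx, v, hv, rfl⟩ := c.exists_mul (k := 1) (s := {2, 3, 4, 5, 6}) (by decide +kernel) hu
  obtain ⟨a, rfl⟩ := (c.par.mem1 _).1 hx
  exact ⟨a, v, hv, rfl⟩

theorem C1.unique {u : L} {a a' : E} (h : C1 c u a) (h' : C1 c u a') : a = a' := by
  obtain ⟨k, hk, e⟩ := h
  obtain ⟨k', hk', e'⟩ := h'
  rw [e] at e'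
  exact c.x1_inj (c.peel (k := 1) (s := {2, 3, 4, 5, 6}) (by decide +kernel) (c.mem1 a) hk (c.mem1 a') hk' e').1

theorem C1.conj_U {u : L} {a : E} (h : C1 c u a) {w : L} (hw : w ∈ Sg c.X Pos) : C1 c (w * u * w⁻¹) a := by
  obtain ⟨k, hk, rfl⟩ := h
  obtain ⟨s, k', hk', rfl⟩ := exists_C1 hw
  refine ⟨c.x1 s * ((c.x1 (-a) * k' * (c.x1 (-a))⁻¹) * k * k'⁻¹) * (c.x1 s)⁻¹,
    k1 (c.mem1 s) (mul_mem (mul_mem (k1 (c.mem1 _) hk') hk) (inv_mem hk')), ?_⟩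
  rw [c.x1_neg]
  calc c.x1 s * k' * (c.x1 a * k) * (c.x1 s * k')⁻¹
      = c.x1 s * c.x1 a * ((c.x1 a)⁻¹ * k' * c.x1 a * k * k'⁻¹) * (c.x1 s)⁻¹ := by group
    _ = c.x1 a * c.x1 s * ((c.x1 a)⁻¹ * k' * c.x1 a * k * k'⁻¹) * (c.x1 s)⁻¹ := by rw [x1_comm]
    _ = _ := by group

theorem C1.act {u : L} {a : E} (h : C1 c u a) {g : L} {c1 c6 : E} (hg : c.Act g c1 c6) :
    C1 c (g * u * g⁻¹) (c1 * a) := by
  obtain ⟨k, hk, rfl⟩ := h
  refine ⟨g * k * g⁻¹, conj_Sg hg.maps (fun _ h => h) hk, ?_⟩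
  rw [← hg.a1]
  group

theorem Co.c1 {u : L} {a b : E} (h : Co c u a b) : C1 c u a := by
  obtain ⟨k, hk, rfl⟩ := h
  exact ⟨k * c.x5 b, mul_mem (Sg_mono (by decide +kernel) hk) (X_le_Sg (by decide) (c.mem5 b)), by rw [mul_assoc]⟩

/-! ### `V = U ∩ U^{n6}` -/

theorem n6_inv_maps : Maps c.X c.n6⁻¹ (fun k => 6 - k) := c.maps_n6.inv (g := fun k => 6 - k) fun k => by ring

theorem n6_inv_V {v : L} (hv : v ∈ VV c) : c.n6⁻¹ * v * c.n6 ∈ VV c := by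
  have := conj_Sg (n6_inv_maps (c := c)) (s := {1, 2, 3, 4, 5}) (t := {1, 2, 3, 4, 5}) (by decide +kernel) hv
  rwa [inv_inv] at this

theorem mem_VV {u : L} (hu : u ∈ Sg c.X Pos) (hu' : c.n6⁻¹ * u * c.n6 ∈ Sg c.X Pos) : u ∈ VV c := by
  obtain ⟨v, hv, y, hy, rfl⟩ := c.exists_mul' (k := 6) (s := {1, 2, 3, 4, 5}) (by decide +kernel)
    (Sg_mono (by decide +kernel) hu)
  have h1 : c.n6⁻¹ * y * c.n6 ∈ c.X 0 := by
    have := maps_mem (n6_inv_maps (c := c)) hy (show (6 : ZMod (2 * 6)) - 6 = 0 by decide)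
    rwa [inv_inv] at this
  have h2 : c.n6⁻¹ * y * c.n6 = 1 := by
    refine c.eq_one_of_pos_neg ?_ (X_le_Sg (by decide) h1)
    have h3 : c.n6⁻¹ * y * c.n6 = (c.n6⁻¹ * v * c.n6)⁻¹ * (c.n6⁻¹ * (v * y) * c.n6) := by group
    rw [h3]
    exact mul_mem (inv_mem (Sg_mono (by decide +kernel) (n6_inv_V hv))) hu'
  have h4 : y = 1 := by
    have : y = c.n6 * (c.n6⁻¹ * y * c.n6) * c.n6⁻¹ := by group
    rw [this, h2]; group
  rw [h4, mul_one]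
  exact hv

/-! ### The quadratic equation -/

theorem fix_of_quad (hc : ∀ a : E, σ (σ (σ a)) = a) {x t d : E} (ht : σ t = t) (hd : σ d = d) (hd0 : d ≠ 0)
    (hx : d * x ^ 2 + t * x + 1 = 0) : σ x = x := by
  have h1 : d * (σ x) ^ 2 + t * σ x + 1 = 0 := by
    have := congrArg σ hx
    rwa [map_add, map_add, map_mul, map_mul, map_pow, hd, ht, map_one, map_zero] at this
  have h2 : d * (σ (σ x)) ^ 2 + t * σ (σ x) + 1 = 0 := by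
    have := congrArg σ h1
    rwa [map_add, map_add, map_mul, map_mul, map_pow, hd, ht, map_one, map_zero] at this
  by_contra hne
  have hne2 : σ (σ x) ≠ σ x := fun h => hne (σ.injective h)
  have hne3 : σ (σ x) ≠ x := by
    intro h
    have := hc x
    rw [h] at this
    exact hne this
  have e1 : (σ x - x) * (d * (σ x + x) + t) = 0 := by linear_combination h1 - hx
  have e2 : (σ (σ x) - x) * (d * (σ (σ x) + x) + t) = 0 := by linear_combination h2 - hx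
  have f1 := (mul_eq_zero.1 e1).resolve_left (sub_ne_zero.2 hne)
  have f2 := (mul_eq_zero.1 e2).resolve_left (sub_ne_zero.2 hne3)
  have f3 : d * (σ (σ x) - σ x) = 0 := by linear_combination f2 - f1
  exact (mul_ne_zero hd0 (sub_ne_zero.2 hne2)) f3

/-- the computation in `SL₂` -/
theorem sl_id {F : Type*} [Field F] {s r : F} (hs : s ≠ 0) (h : 1 + s * r = 0) :
    (wm (1 : F) one_ne_zero)⁻¹ * up (-s) * wm 1 one_ne_zero * up r * wm 1 one_ne_zero =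
      dg s⁻¹ (inv_ne_zero hs) * up s := by
  have hr : r = -s⁻¹ := by
    field_simp
    linear_combination h
  subst hr
  have e : up (-s) * wm 1 one_ne_zero * up (-s⁻¹) * wm 1 one_ne_zero =
      wm (1 : F) one_ne_zero * (dg s⁻¹ (inv_ne_zero hs) * up s) := by
    refine ext_ent ?_ ?_ ?_ ?_ <;> simp [ent_mul, hs]
  calc _ = (wm (1 : F) one_ne_zero)⁻¹ * (up (-s) * wm 1 one_ne_zero * up (-s⁻¹) * wm 1 one_ne_zero) := by group
    _ = _ := by rw [e]; group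

end Cfsg.Agent.H650.AH
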