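import Cfsg.Agent.H650.AH.HexCo
import Cfsg.Agent.H330.ClassTorus
import Cfsg.Agent.H27.AH.Defs

/-!
# S2451 (A), `G₂` and `³D₄`: the short node is universal (helper650)

`Lk c S x0 l s` : the building with the system `S` of unipotent groups and the hexagonal group `c : HexGrp σ L` match.

* `dt_all` : every `p`-regular `x ≠ 1` has `DT S x s` (a Sylow `p`-subgroup of its centraliser in some `U y`, trivial on the
  short panel of `y`);
* `notA_of_lk` : `NotA p L`.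
-/

set_option autoImplicit false
set_option linter.unusedSectionVars false

namespace Cfsg.Agent.H650.AH

open Cfsg.Agent.SplitTwo Cfsg.Agent.TitsThree.RankTwoZ Cfsg.Agent.Lib.SL2Mat Cfsg.Agent.Cit.HexBase
  Cfsg.Agent.Cit.HexBase.HexGrp
open Cfsg Cfsg.Agent.Tits.Core Cfsg.Agent.Tits.Core.Bldg Cfsg.Agent.Tits.Exchange Cfsg.Agent.Tits
  Cfsg.Agent.H330.ClassProd Cfsg.Agent.H330.ClassRes Cfsg.Agent.H330.ClassTorus

universe u

variable {I : Type*} {M : CoxeterMatrix I} {W : Type*} [Group W] {cs : CoxeterSystem M W} {C : Type*}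

local prefix:100 "ℓ" => cs.length

variable {Δ : Bldg cs C} {L : Type u} [Group L] [MulAction L C] {p : ℕ} (S : FixBN.Sys Δ L p)

/-- A chamber fixed by `U x` is `x`. -/
theorem eq_of_fix_U [F : OppRes.Cox cs] (hth : Δ.Thick) {x y : C} (h : ∀ u ∈ S.U x, u • y = y) : y = x := by
  by_contra hne
  have hw : Δ.δ x y ≠ 1 := fun h1 => hne ((Δ.eq_one x y).1 h1).symm
  obtain ⟨i, hi⟩ := cs.exists_rightDescent_of_ne_one hw
  have hi' : ℓ (Δ.δ x y * cs.simple i) < ℓ (Δ.δ x y) := hi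
  have h0 : Δ.δ x y = Δ.δ x y * cs.simple i * cs.simple i := by
    rw [mul_assoc, cs.simple_mul_simple_self, mul_one]
  have hl := cs.length_mul_simple (Δ.δ x y) i
  obtain ⟨y', h1, -⟩ := Δ.exists_between (x := x) (z := y) (v := Δ.δ x y * cs.simple i) (w := cs.simple i) h0
    (by rw [← h0, cs.length_simple]; omega)
  have key : ∀ z, Δ.δ y' z = cs.simple i → z = y := by
    intro z hz
    have h2 : Δ.δ x z = Δ.δ x y := by
      have h3 := Δ.step_lt x y' z i hz (by rw [h1, ← h0]; exact hi')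
      rw [h3, h1, ← h0]
    obtain ⟨u, hu, e⟩ := S.exists_move h2.symm
    rw [← e, h u hu]
  obtain ⟨a, b, hab, ha, hb⟩ := hth y' i
  exact hab ((key a ha).trans (key b hb).symm)

/-- conjugates of minimal residues -/
theorem MinRes.conj {g : L} {K : Finset I} {x : C} (h : MinRes Δ g K x) (S : FixBN.Sys Δ L p) (k : L) :
    MinRes Δ (k * g * k⁻¹) K (k • x) where
  mem := by
    rw [mul_smul, inv_smul_smul, mul_smul, S.iso]
    exact h.mem
  min := fun y J hJ => by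
    refine h.min (k⁻¹ • y) J ?_
    rw [mul_smul, mul_smul] at hJ
    rw [← S.iso k, smul_inv_smul]
    exact hJ

variable {E : Type*} [Field E] {σ : E ≃+* E} {c : HexGrp σ L}

/-- The building and the hexagonal group match. -/
structure Lk (c : HexGrp σ L) (S : FixBN.Sys Δ L p) (x0 : C) (l s : I) : Prop where
  U : S.U x0 = Sg c.X Pos
  st : ∀ g : L, g • x0 = x0 → ∃ h ∈ c.T0, ∃ u ∈ Sg c.X Pos, g = h * u
  dl : Δ.δ x0 (c.n6 • x0) = cs.simple l
  ds : Δ.δ x0 (c.n1 • x0) = cs.simple s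
  two : ∀ i : I, i = l ∨ i = s

variable {S} {x0 : C} {l s : I}

namespace Lk

variable (k : Lk c S x0 l s)

include k

theorem fixU {u : L} (hu : u ∈ Sg c.X Pos) : u • x0 = x0 := S.fix x0 u (by rw [k.U]; exact hu)

theorem fixT [F : OppRes.Cox cs] (hth : Δ.Thick) {h : L} (hh : h ∈ c.T0) : h • x0 = x0 := by
  refine eq_of_fix_U S hth fun u hu => ?_
  rw [k.U] at hu
  have h1 := c.T0_conj (inv_mem hh) hu
  rw [inv_inv] at h1
  have e : u • h • x0 = h • (h⁻¹ * u * h) • x0 := by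
    rw [← mul_smul, ← mul_smul]
    congr 1
    group
  rw [e, k.fixU h1]

theorem fixV {v : L} (hv : v ∈ VV c) : v • c.n6 • x0 = c.n6 • x0 := by
  have h1 := n6_inv_V hv
  have e : v • c.n6 • x0 = c.n6 • (c.n6⁻¹ * v * c.n6) • x0 := by
    rw [← mul_smul, ← mul_smul]
    congr 1
    group
  rw [e, k.fixU (Sg_mono (by decide +kernel) h1)]

theorem fixT6 [F : OppRes.Cox cs] (hth : Δ.Thick) {h : L} (hh : h ∈ c.T0) : h • c.n6 • x0 = c.n6 • x0 := by
  have h1 : c.n6⁻¹ * h * c.n6 ∈ c.T0 := inv_conj_T0 n6_sq (by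
    rintro h ⟨c1, c6, h1⟩
    exact ⟨_, _, h1.n6⟩) hh
  have e : h • c.n6 • x0 = c.n6 • (c.n6⁻¹ * h * c.n6) • x0 := by
    rw [← mul_smul, ← mul_smul]
    congr 1
    group
  rw [e, k.fixT hth h1]

/-- `KK` is trivial on the short panel. -/
theorem fixK {u : L} (hu : u ∈ KK c) {y : C} (hy : y ∈ Δ.Pan s x0) : u • y = y := by
  have huU : u ∈ Sg c.X Pos := Sg_mono (by decide +kernel) hu
  refine S.pan x0 (c.n1 • x0) s k.ds u (by rw [k.U]; exact huU) ?_ y hy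
  have hm : Maps c.X c.n1⁻¹ (fun k => 8 - k) := c.maps_n1.inv (g := fun k => 8 - k) fun k => by ring
  have h1 := conj_Sg hm (s := {2, 3, 4, 5, 6}) (t := {2, 3, 4, 5, 6}) (by decide +kernel) hu
  rw [inv_inv] at h1
  have e : u • c.n1 • x0 = c.n1 • (c.n1⁻¹ * u * c.n1) • x0 := by
    rw [← mul_smul, ← mul_smul]
    congr 1
    group
  rw [e, k.fixU (Sg_mono (by decide +kernel) h1)]

theorem conjU {w : L} (hw : w ∈ S.U (c.n6 • x0)) : c.n6⁻¹ * w * c.n6 ∈ Sg c.X Pos := by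
  rw [← k.U]
  refine S.conj_mem_U_iff (g := c.n6).1 ?_
  have e : c.n6 * (c.n6⁻¹ * w * c.n6) * c.n6⁻¹ = w := by group
  rw [e]
  exact hw

section Main

variable [Fintype I] [DecidableEq I] [Finite W] [Finite L] [Fintype C] [Fact p.Prime]

/-- fixed chamber, first step -/
theorem dt_fix_one (hth : Δ.Thick) (ht : ∀ x y : C, ∃ g : L, g • x = y) {x h w : L} {c1 c6 : E}
    (hx : x • x0 = x0) (hp : ¬ p ∣ orderOf x) (hh : c.Act h c1 c6) (hw : w ∈ Sg c.X Pos) (e : x = h * w)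
    (hc1 : c1 ≠ 1) : DT S x s := by
  have hsyl := (minRes_of_fix (Δ := Δ) hx).isSyl S hth ht hp
  refine ⟨x0, _, hsyl, ?_, ?_⟩
  · rintro u ⟨hu, -⟩
    exact hu x0 (Δ.self_mem_Res _ _)
  · rintro u ⟨hu, hux⟩ y hy
    have hu0 : u ∈ Sg c.X Pos := by
      rw [← k.U]
      exact hu x0 (Δ.self_mem_Res _ _)
    have hcomm := Subgroup.mem_centralizer_singleton_iff.1 hux
    obtain ⟨a, ha⟩ := exists_C1 hu0
    have h1 := (ha.conj_U hw).act hh
    have h2 : h * (w * u * w⁻¹) * h⁻¹ = u := by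
      have e1 : h * (w * u * w⁻¹) * h⁻¹ = x * u * x⁻¹ := by rw [e]; group
      rw [e1, ← hcomm]
      group
    rw [h2] at h1
    have h3 := h1.unique ha
    have h4 : a = 0 := by
      have h5 : (c1 - 1) * a = 0 := by linear_combination h3
      exact (mul_eq_zero.1 h5).resolve_left (sub_ne_zero.2 hc1)
    obtain ⟨v, hv, rfl⟩ := ha
    rw [h4, c.x1_zero, one_mul]
    exact k.fixK hv hy

/-- **Elements fixing a chamber.** -/
theorem dt_fix (hth : Δ.Thick) (ht : ∀ x y : C, ∃ g : L, g • x = y) {x : L}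
    (hx : x • x0 = x0) (hp : ¬ p ∣ orderOf x) (hx1 : x ≠ 1) : DT S x s := by
  have F : OppRes.Cox cs := inferInstance
  obtain ⟨h, ⟨c1, c6, hh⟩, w, hw, e⟩ := k.st x hx
  by_cases hc1 : c1 = 1
  swap
  · exact k.dt_fix_one hth ht hx hp hh hw e hc1
  by_cases hc6 : c6 = 1
  · exfalso
    have h1 : h = 1 := Act.eq_one (by rw [hc1, hc6] at hh; exact hh)
    rw [h1, one_mul] at e
    have h2 : x ∈ S.U x0 := by rw [k.U, e]; exact hw
    obtain ⟨m, hm⟩ := (S.isP x0) ⟨x, h2⟩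
    have h3 : x ^ p ^ m = 1 := congrArg Subtype.val hm
    have h4 : orderOf x ∣ p ^ m := orderOf_dvd_of_pow_eq_one h3
    have h5 : (orderOf x).Coprime (p ^ m) :=
      Nat.Coprime.pow_right _ ((Nat.Prime.coprime_iff_not_dvd Fact.out).2 hp).symm
    exact hx1 (orderOf_eq_one_iff.1 (Nat.Coprime.eq_one_of_dvd h5 h4))
  obtain ⟨d, hd, hxd⟩ := exists_fixed_at S hth ht hx hp (cs.simple l)
  obtain ⟨u1, hu1, e1⟩ := S.exists_move (k.dl.trans hd.symm)
  have hu1' : u1 • x0 = x0 := S.fix x0 u1 hu1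
  have hu1'' : u1⁻¹ • x0 = x0 := by rw [inv_smul_eq_iff, hu1']
  rw [k.U] at hu1
  -- the conjugate fixes `x0` and `n6 x0`
  have hz1 : (u1⁻¹ * x * u1) • x0 = x0 := by
    rw [mul_smul, mul_smul, hu1', hx, hu1'']
  have hz2 : (u1⁻¹ * x * u1) • c.n6 • x0 = c.n6 • x0 := by
    rw [mul_smul, mul_smul, e1, hxd, ← e1, inv_smul_smul]
  have hh0 : h ∈ c.T0 := ⟨c1, c6, hh⟩
  obtain ⟨w', hw'⟩ : ∃ w' : L, w' = (h⁻¹ * u1⁻¹ * h) * w * u1 := ⟨_, rfl⟩
  have hw'U : w' ∈ Sg c.X Pos := by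
    rw [hw']
    have h1 := c.T0_conj (inv_mem hh0) (inv_mem hu1)
    rw [inv_inv] at h1
    exact mul_mem (mul_mem h1 hw) hu1
  have hz : u1⁻¹ * x * u1 = h * w' := by rw [hw', e]; group
  have hw'6 : w' • c.n6 • x0 = c.n6 • x0 := by
    have h1 : w' = h⁻¹ * (u1⁻¹ * x * u1) := by rw [hz]; group
    rw [h1, mul_smul, hz2, k.fixT6 hth (inv_mem hh0)]
  have hw'V : c.n6⁻¹ * w' * c.n6 ∈ Sg c.X Pos :=
    k.conjU (S.mem_U_of_fix (by rw [k.U]; exact hw'U) hw'6)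
  -- the conjugate by `n6`
  have hT : c.n6⁻¹ * h * c.n6 = c.n6 * h * c.n6⁻¹ := by
    have h1 : c.n6 * h * c.n6⁻¹ ∈ c.T0 := ⟨_, _, hh.n6⟩
    have h2 := c.T0_comm h1 (n6_sq (c := c))
    have h3 : c.n6⁻¹ * h * c.n6 = (c.n6 * c.n6)⁻¹ * ((c.n6 * h * c.n6⁻¹) * (c.n6 * c.n6)) := by group
    rw [h3, h2]
    group
  have hact : c.Act (c.n6⁻¹ * h * c.n6) (c6 * c1) c6⁻¹ := by
    rw [hT]; exact hh.n6
  have h9 : DT S (c.n6⁻¹ * (u1⁻¹ * x * u1) * c.n6) s := by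
    refine k.dt_fix_one hth ht ?_ ?_ hact hw'V (by rw [hz]; group) (by rw [hc1, mul_one]; exact hc6)
    · rw [mul_smul, mul_smul, hz2, inv_smul_smul]
    · have h10 : c.n6⁻¹ * (u1⁻¹ * x * u1) * c.n6 = (c.n6⁻¹ * u1⁻¹) * x * (c.n6⁻¹ * u1⁻¹)⁻¹ := by group
      rw [h10, orderOf_of_isConj (isConj_iff.2 ⟨c.n6⁻¹ * u1⁻¹, rfl⟩)]
      exact hp
  have h11 := h9.conj (u1 * c.n6)
  have h12 : u1 * c.n6 * (c.n6⁻¹ * (u1⁻¹ * x * u1) * c.n6) * (u1 * c.n6)⁻¹ = x := by group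
  rwa [h12] at h11

/-- **Elements stabilising an `l`-panel but no chamber.** -/
theorem dt_long (hth : Δ.Thick) (ht : ∀ x y : C, ∃ g : L, g • x = y) {x : L}
    (hx : MinRes Δ x {l} x0) (hp : ¬ p ∣ orderOf x) : DT S x s := by
  have F : OppRes.Cox cs := inferInstance
  have hnofix : ∀ (z : L) (y : C), MinRes Δ z {l} x0 → z • y ≠ y := by
    intro z y hz h1
    have h2 := hz.min y ∅ (by
      rw [Finset.coe_empty, mem_WJ_empty, h1, Δ.δ_self])
    simp at h2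
  have hd : Δ.δ x0 (x • x0) = cs.simple l := by
    have h1 := hx.mem
    rw [Finset.coe_singleton, mem_WJ_singleton] at h1
    rcases h1 with h1 | h1
    · exact absurd ((Δ.eq_one _ _).1 h1).symm (hnofix x x0 hx)
    · exact h1
  obtain ⟨u1, hu1, e1⟩ := S.exists_move (k.dl.trans hd.symm)
  have hu1' : u1 • x0 = x0 := S.fix x0 u1 hu1
  have hu1'' : u1⁻¹ • x0 = x0 := by rw [inv_smul_eq_iff, hu1']
  obtain ⟨z, hz⟩ : ∃ z : L, z = u1⁻¹ * x * u1 := ⟨_, rfl⟩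
  have hzx : u1 * z * u1⁻¹ = x := by rw [hz]; group
  have hzm : MinRes Δ z {l} x0 := by
    have := MinRes.conj hx S u1⁻¹
    rwa [hu1'', inv_inv, ← hz] at this
  have hzp : ¬ p ∣ orderOf z := by
    have h10 : z = u1⁻¹ * x * (u1⁻¹)⁻¹ := by rw [hz]; group
    rw [h10, orderOf_of_isConj (isConj_iff.2 ⟨u1⁻¹, rfl⟩)]
    exact hp
  have hz6 : z • x0 = c.n6 • x0 := by
    rw [hz, mul_smul, mul_smul, hu1', ← e1, inv_smul_smul]
  obtain ⟨h, ⟨c1, c6, hh⟩, w, hw, e⟩ := k.st (c.n6⁻¹ * z) (by rw [mul_smul, hz6, inv_smul_smul])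
  have hh0 : h ∈ c.T0 := ⟨c1, c6, hh⟩
  have ez : z = c.n6 * h * w := by rw [mul_assoc, ← e]; group
  obtain ⟨v, hv, y6, hy6, rfl⟩ := c.exists_mul' (k := 6) (s := {1, 2, 3, 4, 5}) (by decide +kernel)
    (Sg_mono (by decide +kernel) hw)
  obtain ⟨t, ht6, rfl⟩ := (c.par.mem6 _).1 hy6
  suffices hDT : DT S z s by
    have := hDT.conj u1
    rwa [hzx] at this
  refine ⟨x0, _, hzm.isSyl S hth ht hzp, ?_, ?_⟩
  · rintro u ⟨hu, -⟩
    exact hu x0 (Δ.self_mem_Res _ _)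
  rintro u ⟨hu, hux⟩ y hy
  have hcomm := Subgroup.mem_centralizer_singleton_iff.1 hux
  have hu0 : u ∈ Sg c.X Pos := by
    rw [← k.U]
    exact hu x0 (Δ.self_mem_Res _ _)
  have huV : u ∈ VV c := by
    refine mem_VV hu0 (k.conjU (hu _ ?_))
    rw [mem_Res, k.dl]
    exact simple_mem_WJ cs (by simp)
  obtain ⟨a, b, hab⟩ := exists_Co huV
  have h1 := (((hab.conj6 ht6).conj_V hv).act hh).n6
  have h2 : c.n6 * (h * (v * (c.x6 t * u * (c.x6 t)⁻¹) * v⁻¹) * h⁻¹) * c.n6⁻¹ = u := by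
    have e1 : c.n6 * (h * (v * (c.x6 t * u * (c.x6 t)⁻¹) * v⁻¹) * h⁻¹) * c.n6⁻¹ = z * u * z⁻¹ := by rw [ez]; group
    rw [e1, ← hcomm]
    group
  rw [h2] at h1
  obtain ⟨h3, h4⟩ := h1.unique hab
  by_cases ha : a = 0
  · subst ha
    obtain ⟨v', hv', rfl⟩ := hab.c1
    rw [c.x1_zero, one_mul]
    exact k.fixK hv' hy
  exfalso
  have h5 : a * (c6 * c1 ^ 2 + c6 * t * c1 + 1) = 0 := by
    rw [← h4] at h3
    linear_combination -h3
  have h6 := (mul_eq_zero.1 h5).resolve_left ha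
  have h7 : σ c1 = c1 := fix_of_quad c.cube (mul_fix hh.fix ht6) hh.fix hh.ne6 h6
  -- the fixed chamber
  have htc : σ (t + c1) = t + c1 := by rw [map_add, ht6, h7]
  obtain ⟨r, hr⟩ : ∃ r : ↥(fx σ), r = ⟨c6 * (t + c1), mul_fix hh.fix htc⟩ := ⟨_, rfl⟩
  obtain ⟨s', hs'⟩ : ∃ s' : ↥(fx σ), s' = ⟨c1, h7⟩ := ⟨_, rfl⟩
  have hs0 : s' ≠ 0 := by
    rintro h
    apply hh.ne1
    have := congrArg Subtype.val (hs'.symm.trans h)
    exact this
  have hsr : 1 + s' * r = 0 := by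
    rw [hs', hr]
    apply Subtype.ext
    change 1 + c1 * (c6 * (t + c1)) = 0
    linear_combination h6
  have hsl := congrArg c.pa (sl_id hs0 hsr)
  rw [map_mul, map_mul, map_mul, map_mul, map_inv, map_mul, c.pa_up, c.pa_up, c.pa_up] at hsl
  change c.n6⁻¹ * c.x6 ((-s' : ↥(fx σ)) : E) * c.n6 * c.x6 (r : E) * c.n6 = _ at hsl
  have hr' : (r : E) = c6 * (t + c1) := by rw [hr]
  have hs'' : (s' : E) = c1 := by rw [hs']
  have hs3 : ((-s' : ↥(fx σ)) : E) = -c1 := by rw [hs']; rfl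
  rw [hr', hs'', hs3, c.x6_neg h7] at hsl
  refine hnofix z (c.x6 c1 • c.n6 • x0) hzm ?_
  have f1 : c.x6 t * c.x6 c1 = c.x6 (t + c1) := (c.x6_add ht6 h7).symm
  have f2 : (c.x6 (t + c1))⁻¹ * v * c.x6 (t + c1) ∈ VV c := by
    have := c.conj_mem_Sg (k := 6) (s := {1, 2, 3, 4, 5}) (by decide +kernel) (inv_mem (c.mem6 htc)) hv
    rwa [inv_inv] at this
  have f3 : h * c.x6 (t + c1) * h⁻¹ = c.x6 (c6 * (t + c1)) := hh.a6 _ htc
  calc z • c.x6 c1 • c.n6 • x0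
      = c.n6 • h • v • (c.x6 t * c.x6 c1) • c.n6 • x0 := by
        rw [ez]
        simp only [mul_smul]
    _ = c.n6 • h • c.x6 (t + c1) • ((c.x6 (t + c1))⁻¹ * v * c.x6 (t + c1)) • c.n6 • x0 := by
        rw [f1]
        simp only [mul_smul, smul_inv_smul]
    _ = c.n6 • (h * c.x6 (t + c1) * h⁻¹) • h • c.n6 • x0 := by
        rw [k.fixV f2]
        simp only [mul_smul, inv_smul_smul]
    _ = c.n6 • c.x6 (c6 * (t + c1)) • c.n6 • x0 := by rw [f3, k.fixT6 hth hh0]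
    _ = c.x6 c1 • c.n6 • (c.n6⁻¹ * (c.x6 c1)⁻¹ * c.n6 * c.x6 (c6 * (t + c1)) * c.n6) • x0 := by
        simp only [mul_smul, smul_inv_smul]
    _ = c.x6 c1 • c.n6 • x0 := by
        rw [hsl, mul_smul, k.fixU (X_le_Sg (by decide) (c.mem6 h7)), k.fixT hth ⟨_, _, c.act_a _ _⟩]

theorem dt_all (hth : Δ.Thick) (ht : ∀ x y : C, ∃ g : L, g • x = y) {x : L} (hp : ¬ p ∣ orderOf x) (hx : x ≠ 1) :
    DT S x s := by
  have F : OppRes.Cox cs := inferInstance
  have : Nonempty C := ⟨x0⟩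
  obtain ⟨K, y, hK⟩ := exists_minRes Δ x
  by_cases hs : s ∈ K
  · exact hK.dt S hth ht hp hs
  obtain ⟨g, rfl⟩ := ht x0 y
  have hK' : MinRes Δ (g⁻¹ * x * g) K x0 := by
    have := MinRes.conj hK S g⁻¹
    rwa [inv_smul_smul, inv_inv] at this
  have hp' : ¬ p ∣ orderOf (g⁻¹ * x * g) := by
    have h10 : g⁻¹ * x * g = g⁻¹ * x * (g⁻¹)⁻¹ := by group
    rw [h10, orderOf_of_isConj (isConj_iff.2 ⟨g⁻¹, rfl⟩)]
    exact hp
  have hx' : g⁻¹ * x * g ≠ 1 := by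
    intro h
    apply hx
    have : x = g * (g⁻¹ * x * g) * g⁻¹ := by group
    rw [this, h]; group
  suffices h : DT S (g⁻¹ * x * g) s by
    have := h.conj g
    have e : g * (g⁻¹ * x * g) * g⁻¹ = x := by group
    rwa [e] at this
  by_cases hl : l ∈ K
  · have hKl : K = {l} := by
      ext i
      rw [Finset.mem_singleton]
      constructor
      · intro hi
        rcases k.two i with rfl | rfl
        · rfl
        · exact absurd hi hs
      · rintro rfl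
        exact hl
    rw [hKl] at hK'
    exact k.dt_long hth ht hK' hp'
  · have hKe : K = ∅ := by
      ext i
      simp only [Finset.notMem_empty, iff_false]
      rcases k.two i with rfl | rfl
      · exact hl
      · exact hs
    rw [hKe] at hK'
    have h1 := hK'.mem
    rw [Finset.coe_empty, mem_WJ_empty] at h1
    exact k.dt_fix hth ht ((Δ.eq_one _ _).1 h1).symm hp' hx'

/-- **`NotA`.** -/
theorem notA (hS : FixBN.HasSplit p L) (hth : Δ.Thick) (ht : ∀ x y : C, ∃ g : L, g • x = y) : H27.AH.NotA p L := by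
  have F : OppRes.Cox cs := inferInstance
  intro a b c' ha hb _ hab h1 h2 _
  exact clash ht hS hab h1 h2 (k.dt_all hth ht h1 ha) ((k.dt_all hth ht h2 hb).dp hth)

end Main

end Lk

end Cfsg.Agent.H650.AH
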