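import Cfsg.Agent.H650.AH.HexDT
import Cfsg.Agent.OddHalf.Table.AutRGD

/-!
# S2451 (A), `G₂` and `³D₄`: from a root group datum (helper650)

`notA_of_rgd_hex` : a finite simple group with a root group datum of rank two and a matching `HexGrp`.
-/

set_option autoImplicit false
set_option linter.unusedSectionVars false

namespace Cfsg.Agent.H650.AH

open CoxeterSystem Cfsg.Agent.ChevalleyStructure.CoxeterGeom Cfsg.Agent.Tits.Roots Cfsg.Agent.Tits.Core
  Cfsg.Agent.Tits.RootComb Cfsg.Agent.Nodes.Comb Cfsg.Agent.Nodes.Reps Cfsg.Agent.Nodes.BNOf Cfsg.Agent.Nodes.BNOf.RGD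
  Cfsg.Agent.FixBN Cfsg.Agent.Tits.OfBN Cfsg.Agent.Tits.OppRes Cfsg.Agent.LieExceptional.BNPairCore
  Cfsg.Agent.OddHalf.Table.AutBldg Cfsg.Agent.OddHalf.Table.AutRGD
open Cfsg.Agent.Cit.HexBase Cfsg.Agent.Cit.HexBase.HexGrp

variable {I W Y : Type*} [Fintype I] [DecidableEq I] [Group W] [Group Y] {M : CoxeterMatrix I}
  {cs : CoxeterSystem M W} {A : I → I → ℤ} {h : IsCartan M A} {p : ℕ} {T : Subgroup Y} {n : I → Y}
  {X : (I → ℤ) → Subgroup Y} [Finite W]

/-- **`NotA` from a root group datum matching a hexagonal group.** -/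
theorem notA_of_rgd_hex [Finite Y] [IsSimpleGroup Y] [Fact p.Prime] (R : RGD cs h p T n X)
    (hgen : B cs h T X ⊔ NN cs R.nsys = ⊤) {E : Type*} [Field E] {σ : E ≃+* E} (c : HexGrp σ Y) (l s : I)
    (two : ∀ i : I, i = l ∨ i = s) (hU : Sup X (Pos cs h) = Sg c.X HexGrp.Pos) (hT : T ≤ c.T0)
    (hl : n l = c.n6) (hs : n s = c.n1) : H27.AH.NotA p Y := by
  classical
  have hne : (R.bnPair hgen).S.Nonempty := ⟨n l, l, rfl⟩
  have hcore : (B cs h T X).normalCore = ⊥ := Cfsg.Agent.Tits.OfBN.normalCore_eq_bot (R.bnPair hgen) hne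
  obtain ⟨hN, cs', hcs, hW, S⟩ := exists_setup R hgen hcore
  have hC : Cox cs' := inferInstance
  have : Fintype (Y ⧸ (R.bnPair hgen).B) := Fintype.ofFinite _
  have hδ : ∀ i, (bldg (R.bnPair hgen) (eS R hgen) cs' hcs).δ (QuotientGroup.mk 1)
      (n i • (QuotientGroup.mk 1 : Y ⧸ (R.bnPair hgen).B)) = cs'.simple i := by
    intro i
    rw [FixBN.OfBN.smul_mk, bldg_δ_mk, hcs]
    refine wt_of_mem _ ?_
    have e : (1 : Y)⁻¹ * (n i * 1) = n i := by group
    rw [e]
    exact self_mem_C _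
  have k : Lk c (FixBN.OfBN.sys (eS R hgen) cs' hcs S) (QuotientGroup.mk 1 : Y ⧸ (R.bnPair hgen).B) l s :=
    { U := by
        ext u
        change u ∈ FixBN.OfBN.UU (R.bnPair hgen) (Sup X (Pos cs h)) (QuotientGroup.mk 1) ↔ _
        rw [FixBN.OfBN.mem_UU S, ← hU]
        simp
      st := by
        intro g hg
        rw [FixBN.OfBN.smul_mk_eq] at hg
        have hg' : g ∈ B cs h T X := by
          have e : (1 : Y)⁻¹ * g * 1 = g := by group
          rw [e] at hg
          exact hg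
        obtain ⟨t, ht, u, hu, rfl⟩ := R.mem_B.1 hg'
        exact ⟨t, hT ht, u, by rw [← hU]; exact hu, rfl⟩
      dl := by rw [← hl]; exact hδ l
      ds := by rw [← hs]; exact hδ s
      two := two }
  exact k.notA ⟨_, _, hne, S⟩ (Tits.OfBN.thick (R.bnPair hgen) (eS R hgen) cs' hcs)
    (fun x y => MulAction.exists_smul_eq Y x y)

end Cfsg.Agent.H650.AH
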