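import Cfsg.Agent.H650.AH.HexRGD
import Cfsg.Agent.Cit.HexD4
import Cfsg.Agent.Nodes.RGDTwD4

/-!
# S2451 (A): `³D₄(q)` (helper650)
-/

set_option autoImplicit false
set_option linter.unusedSectionVars false

namespace Cfsg.Agent.H650.AH.RowTwD4

open CoxeterSystem Cfsg.Agent.ChevalleyStructure.CoxeterGeom Cfsg.Agent.Tits.Roots Cfsg.Agent.Tits.Core
  Cfsg.Agent.Nodes.BNOf Cfsg.Agent.Nodes.BNOf.RGD Cfsg.Agent.Nodes.RGDTwGen Cfsg.Agent.Nodes.RGDChev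
  Cfsg.Agent.Nodes.RGDFold Cfsg.Agent.Nodes.RGDTwD4
open Cfsg.Lie Cfsg.Agent.ChevalleyStructure
  Cfsg.Agent.ChevalleyStructure.TwistedU Cfsg.Agent.ChevalleyStructure.TwistedFix
open Cfsg.Agent.ChevalleyStructure.D4Comm
open Cfsg.Agent.ChevalleyStructure.D4Pos (lprod_inj)
open Cfsg.Agent.ChevalleyStructure.D4NConj (nR hR)
open Cfsg.Agent.ChevalleyStructure.D4U Cfsg.Agent.ChevalleyStructure.D4Twisted
open Cfsg.Agent.ChevalleyStructure.D4Fixed (sig)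
open Cfsg.Agent.TitsThree.RankTwoZ Cfsg.Agent.Cit.HexBase Cfsg.Agent.Cit.HexBase.HexGrp Cfsg.Agent.Lib.SL2Mat
open Cfsg.Agent.Hexagon.TwD4Par Cfsg.Agent.Hexagon.TwD4Rel

universe u

/-- the classes of the hexagon -/
abbrev LL (k : ZMod (2 * 6)) : List ℕ := Cfsg.Agent.Hexagon.TwD4RGD.L k

theorem cls_pos' : ∀ r : Fin 24, (∀ i : Fin 2, 0 ≤ V chevD4 J r i) →
    ∃ k ∈ ({1, 2, 3, 4, 5, 6} : Finset (ZMod (2 * 6))), ∀ s < 24, (V chevD4 J s = V chevD4 J r ↔ s ∈ LL k) := by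
  decide +kernel

theorem cls_pos (r : ℕ) (hr : r < 24) (h : ∀ i : Fin 2, 0 ≤ V chevD4 J r i) :
    ∃ k ∈ ({1, 2, 3, 4, 5, 6} : Finset (ZMod (2 * 6))), ∀ s < 24, (V chevD4 J s = V chevD4 J r ↔ s ∈ LL k) :=
  cls_pos' ⟨r, hr⟩ h

theorem pos_cls : ∀ k ∈ ({1, 2, 3, 4, 5, 6} : Finset (ZMod (2 * 6))), ∃ r : Fin 24,
    (∀ i : Fin 2, 0 ≤ V chevD4 J r i) ∧ ∀ s < 24, (V chevD4 J s = V chevD4 J r ↔ s ∈ LL k) := by
  decide +kernel

theorem hwp : ∀ i : Fin 2, ∀ r < chevD4.nroots, wp chevD4 (J i) r < chevD4.nroots := by decide +kernel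

theorem two (i : Fin 2) : i = 0 ∨ i = 1 := by
  fin_cases i
  · left; rfl
  · right; rfl

section

variable {K : Type u} [Field K] {q : ℕ} {φ : K →+* K}

theorem X_eq (hle : twistedD4 K q ≤ D4Fixed.fix φ) {r : ℕ} {k : ZMod (2 * 6)}
    (h : ∀ s < 24, (V chevD4 J s = V chevD4 J r ↔ s ∈ LL k)) :
    Nodes.RGDTwD4.X φ q (V chevD4 J r) = Cfsg.Agent.Hexagon.TwD4RGD.X K q k := by
  have h1 : R chevD4 hp K J (sig φ) (V chevD4 J r) = RS K (LL k) ⊓ D4Fixed.fix φ := by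
    rw [R_eq h (fun s hs => Cfsg.Agent.Hexagon.TwD4RGD.L_lt k s hs), xG_eq, fixS_eq]
  unfold Nodes.RGDTwD4.X
  rw [h1]
  ext g
  rw [Subgroup.mem_subgroupOf, Cfsg.Agent.Hexagon.TwD4RGD.mem_X]
  exact ⟨fun h => h.1, fun h => ⟨h, hle g.2⟩⟩

theorem diag_conj {t : GL chevD4.Idx K} (ht : t ∈ chevD4.diagonalSubgroup K) {r : ℕ} (hr : r < 24) :
    ∃ c : K, c ≠ 0 ∧ ∀ a : K, t * D4Comm.xG r a * t⁻¹ = D4Comm.xG r (c * a) := by
  obtain ⟨c, hc, h⟩ := BNChev.diagonal_conj (F := K) hp.inList ht (show r < chevD4.nroots from hr)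
  refine ⟨c, hc, fun a => ?_⟩
  have := h a
  rwa [xG_eq] at this

end

section

variable {K : Type u} [Field K] [Fintype K] {q : ℕ}

theorem act_of_T {σ : K ≃+* K} (hK : Fintype.card K = q ^ 3) (hσ : ∀ x, σ x = x ^ q) (hq : IsPrimePow q)
    {t : ↥(twistedD4 K q)} (ht : (t : GL chevD4.Idx K) ∈ chevD4.diagonalSubgroup K) :
    t ∈ (Cfsg.Agent.Cit.HexD4.d4 hq hK hσ).T0 := by
  have hle : twistedD4 K q ≤ D4Fixed.fix (σ : K →+* K) := D4Fixed.twisted_le_fix hK hσ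
  have hφ : ∀ x, (σ : K →+* K) x = x ^ q := hσ
  have hσφ : ∀ x, σ x = (σ : K →+* K) x := fun _ => rfl
  set c := Cfsg.Agent.Cit.HexD4.d4 hq hK hσ with hc
  have hmaps : Maps c.X t id := by
    intro k x
    change t * x * t⁻¹ ∈ Cfsg.Agent.Hexagon.TwD4RGD.X K q k ↔ x ∈ Cfsg.Agent.Hexagon.TwD4RGD.X K q k
    rw [Cfsg.Agent.Hexagon.TwD4RGD.mem_X, Cfsg.Agent.Hexagon.TwD4RGD.mem_X]
    constructor
    · intro h
      have h1 := Cfsg.Agent.Hexagon.TwD4RGD.H_RS (inv_mem ht) (Cfsg.Agent.Hexagon.TwD4RGD.L_lt k) h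
      have e : (t : GL chevD4.Idx K)⁻¹ * ((t * x * t⁻¹ : ↥(twistedD4 K q)) : GL chevD4.Idx K) *
          ((t : GL chevD4.Idx K)⁻¹)⁻¹ = x := by
        push_cast
        group
      rwa [e] at h1
    · intro h
      exact Cfsg.Agent.Hexagon.TwD4RGD.H_RS ht (Cfsg.Agent.Hexagon.TwD4RGD.L_lt k) h
  obtain ⟨c1, h1, h1'⟩ := diag_conj ht (show 18 < 24 by norm_num)
  obtain ⟨d13, -, h13⟩ := diag_conj ht (show 13 < 24 by norm_num)
  obtain ⟨d12, -, h12⟩ := diag_conj ht (show 12 < 24 by norm_num)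
  obtain ⟨c6, h6, h6'⟩ := diag_conj ht (show 14 < 24 by norm_num)
  have ha1 : ∀ a, t * c.x1 a * t⁻¹ = c.x1 (c1 * a) := by
    intro a
    have hm : t * c.x1 a * t⁻¹ ∈ c.X 1 := (hmaps 1 _).2 (c.mem1 a)
    obtain ⟨b, hb⟩ := (c.par.mem1 _).1 hm
    rw [← hb]
    congr 1
    have h2 : ((c.x1 b : ↥(twistedD4 K q)) : GL chevD4.Idx K) = X1 σ b := Cfsg.Agent.Hexagon.TwD4Par.c1 hφ hσφ b
    have h3 : ((c.x1 a : ↥(twistedD4 K q)) : GL chevD4.Idx K) = X1 σ a := Cfsg.Agent.Hexagon.TwD4Par.c1 hφ hσφ a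
    have h4 := congrArg Subtype.val hb
    rw [h2, Subgroup.coe_mul, Subgroup.coe_mul, Subgroup.coe_inv, h3, X1, X1, w3_eq, w3_eq] at h4
    have h5 : (t : GL chevD4.Idx K) * (D4Comm.xG 18 a * (D4Comm.xG 13 (σ a) * D4Comm.xG 12 (σ (σ a)))) *
        (t : GL chevD4.Idx K)⁻¹ =
        D4Comm.xG 18 (c1 * a) * (D4Comm.xG 13 (d13 * σ a) * D4Comm.xG 12 (d12 * σ (σ a))) := by
      rw [← h1', ← h13, ← h12]
      group
    rw [h5] at h4
    have h6 := lprod_inj [18, 13, 12] (by decide +kernel)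
      (t := fun r => if r = 18 then b else if r = 13 then σ b else σ (σ b))
      (t' := fun r => if r = 18 then c1 * a else if r = 13 then d13 * σ a else d12 * σ (σ a)) (by
        rw [lprod_cons, lprod_cons, lprod_cons, lprod_nil, lprod_cons, lprod_cons, lprod_cons, lprod_nil,
          mul_one, mul_one]
        exact h4) 18 (by simp)
    simpa using h6
  have hx6 : ∀ a, σ a = a → ((c.x6 a : ↥(twistedD4 K q)) : GL chevD4.Idx K) = D4Comm.xG 14 a := fun a ha =>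
    (Cfsg.Agent.Hexagon.TwD4Par.c6 hφ hσφ ha).trans (w1_eq 14 a)
  have hfix6 : ∀ a, σ a = a → σ (c6 * a) = c6 * a ∧ t * c.x6 a * t⁻¹ = c.x6 (c6 * a) := by
    intro a ha
    have hm : t * c.x6 a * t⁻¹ ∈ c.X 6 := (hmaps 6 _).2 (c.mem6 ha)
    obtain ⟨b, hbf, hb⟩ := (c.par.mem6 _).1 hm
    have h4 := congrArg Subtype.val hb
    rw [hx6 b hbf, Subgroup.coe_mul, Subgroup.coe_mul, Subgroup.coe_inv, hx6 a ha, h6'] at h4
    have h5 : b = c6 * a := lprod_inj [14] (by decide +kernel) (t := fun _ => b) (t' := fun _ => c6 * a) (by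
      rw [lprod_cons, lprod_nil, lprod_cons, lprod_nil, mul_one, mul_one]
      exact h4) 14 (by simp)
    rw [← h5]
    exact ⟨hbf, hb.symm⟩
  refine ⟨c1, c6, hmaps, ha1, fun a ha => (hfix6 a ha).2, h1, h6, ?_⟩
  have := (hfix6 1 (map_one σ)).1
  rwa [mul_one] at this

/-- **`³D₄(q)`.** -/
theorem notA_of {σ : K ≃+* K} (hK : Fintype.card K = q ^ 3) (hσ : ∀ x, σ x = x ^ q) (hq : IsPrimePow q) (p : ℕ)
    [CharP K p] : H27.AH.NotA p ↥(twistedD4 K q) := by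
  have : Fact p.Prime := ⟨CharP.char_is_prime K p⟩
  have : IsSimpleGroup ↥(twistedD4 K q) := (S1071.result hq hK).1
  have hφ : ∀ x, (σ : K →+* K) x = x ^ q := hσ
  have hle : twistedD4 K q ≤ D4Fixed.fix (σ : K →+* K) := D4Fixed.twisted_le_fix hK hσ
  set cs := (CoxeterMatrix.G₂).toCoxeterSystem with hcs
  have hW := Nodes.RGDFold.finite_W (hp := hp) cs isCartan foldData
  refine notA_of_rgd_hex (Nodes.RGDTwD4.rgd cs hK hφ p)
    (Nodes.RGDLib.rgd_gen_of_G1 (Nodes.RGDTwD4.rgd cs hK hφ p) (Nodes.RGDTwD4.G1_eq_top cs hK hφ))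
    (Cfsg.Agent.Cit.HexD4.d4 hq hK hσ) 0 1 two ?_ ?_ ?_ ?_
  · apply le_antisymm
    · refine Sup_le fun x hx => ?_
      obtain ⟨r, hr, rfl⟩ := (foldData.isRoot_iff (cs := cs) (h := isCartan) hp.checked hwp x).1 hx.1
      obtain ⟨k, hk, h1⟩ := cls_pos r hr hx.2
      exact le_trans (le_of_eq (X_eq hle h1)) (X_le_Sg hk)
    · refine Sg_le fun k hk => ?_
      obtain ⟨r, hr, h1⟩ := pos_cls k hk
      refine le_trans (le_of_eq (X_eq hle h1).symm) (le_Sup (X := Nodes.RGDTwD4.X (σ : K →+* K) q) ⟨?_, hr⟩)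
      exact (foldData.isRoot_iff (cs := cs) (h := isCartan) hp.checked hwp _).2 ⟨r, r.2, rfl⟩
  · intro t ht
    exact act_of_T hK hσ hq (Subgroup.mem_subgroupOf.1 ht).1
  · apply Subtype.ext
    change nI hp K (J 0) = _
    rw [nI_zero]
    exact (Cfsg.Agent.Cit.HexD4.pa0_wm (fx σ).subtype 1 one_ne_zero).symm
  · apply Subtype.ext
    change nI hp K (J 1) = _
    rw [nI_one, nb_eq (σ : K →+* K)]
    exact (Cfsg.Agent.Cit.HexD4.pb0_wm (σ : K →+* K) 1 one_ne_zero).symm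

theorem notA_twD4 (K : Type u) [Field K] [Fintype K] (p : ℕ) [CharP K p] (q : ℕ) (hq : IsPrimePow q)
    (hK : Fintype.card K = q ^ 3) : H27.AH.NotA p ↥(twistedD4 K q) := by
  obtain ⟨σ, hσ, -⟩ := Cfsg.Agent.Cit.HexD4.exists_d4 hK
  exact notA_of hK hσ hq p

end

end Cfsg.Agent.H650.AH.RowTwD4
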